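import Groth.Agent.Lib.ChevAny2.Smallest
import Groth.Agent.Lib.EssFree.Over
import Groth.Agent.Lib.EssFree.Subgroup
import Groth.Agent.Lib.AlbTors16.Main

/-!
# The Albanese kernel of the neutral component is normal
-/

set_option autoImplicit false
set_option linter.all false
set_option backward.isDefEq.respectTransparency false
set_option maxHeartbeats 1000000
set_option synthInstance.maxHeartbeats 200000

universe u

open CategoryTheory CategoryTheory.Limits MonoidalCategory CartesianMonoidalCategory MonObj GrpObj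
open AlgebraicGeometry

noncomputable section

namespace GrothLib.ChevNorm2

attribute [-instance] Hom.commGroup Hom.commMonoid CommGrpObj.toIsCommMonObj

variable {k : Type u} [Field k]

local notation "𝒦" => Over (Spec (CommRingCat.of k))

/-- Connected neutral parts are stable under conjugation. -/
theorem exists_conj {G G₀ : 𝒦} [GrpObj G] [GrpObj G₀] [LocallyOfFiniteType G.hom] [QuasiCompact G.hom]
    (i₀ : G₀ ⟶ G) [IsMonHom i₀] [IsOpenImmersion i₀.left] [ConnectedSpace ↥G₀.left] :
    ∃ c : G₀ ⊗ G ⟶ G₀, c ≫ i₀ = snd G₀ G * (fst G₀ G ≫ i₀) * (snd G₀ G)⁻¹ := by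
  haveI : IsSeparated G.hom := GrpSchField.isSeparated G
  haveI : LocallyOfFiniteType G₀.hom := by rw [← Over.w i₀]; infer_instance
  haveI : IsLocallyNoetherian G.left := LocallyOfFiniteType.isLocallyNoetherian G.hom
  haveI : QuasiCompact i₀.left := inferInstance
  have hclopen : IsClopen (Set.range i₀.left) :=
    ⟨NeronCompGrp24.isClosed_range_hom i₀, i₀.left.isOpenEmbedding.isOpen_range⟩
  let a : G₀ ⊗ G ⟶ G := snd G₀ G * (fst G₀ G ≫ i₀) * (snd G₀ G)⁻¹
  have hr : Set.range a.left ⊆ Set.range i₀.left := by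
    rintro _ ⟨x, rfl⟩
    let g := (snd G₀ G).left x
    let P : 𝒦 := Over.mk (G.left.fromSpecResidueField g ≫ G.hom)
    let pP : P ⟶ G := Over.homMk (G.left.fromSpecResidueField g)
    haveI : ConnectedSpace P.left := by
      haveI : IrreducibleSpace ↥P.left := inferInstanceAs (IrreducibleSpace (PrimeSpectrum (G.left.residueField g)))
      infer_instance
    haveI : ConnectedSpace ↥(G₀ ⊗ P).left :=
      GrothLib.Neutral.connectedSpace_pullback G₀.hom P.hom η[G₀].left (Over.w η[G₀])
    obtain ⟨r, hr'⟩ : x ∈ Set.range (𝟙 G₀ ⊗ₘ pP).left.base := by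
      rw [Over.tensorHom_left]
      erw [Scheme.Pullback.range_map]
      refine ⟨⟨_, rfl⟩, ?_⟩
      show g ∈ Set.range (G.left.fromSpecResidueField g)
      rw [Scheme.range_fromSpecResidueField]
      rfl
    refine (isPreconnected_range ((𝟙 G₀ ⊗ₘ pP) ≫ a).left.continuous).subset_isClopen hclopen ?_
      ⟨r, by rw [Over.comp_left, Scheme.Hom.comp_apply, hr']⟩
    let t : P ⟶ G₀ ⊗ P := lift 1 (𝟙 P)
    obtain ⟨z⟩ : Nonempty ↥P.left := inferInstance
    have e : t ≫ (𝟙 G₀ ⊗ₘ pP) ≫ a = (1 : P ⟶ G₀) ≫ i₀ := by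
      simp only [a, t, lift_map_assoc, Category.comp_id, Category.id_comp, MonObj.comp_mul, GrpObj.comp_inv,
        lift_fst_assoc, lift_snd, MonObj.one_comp, _root_.mul_one, mul_inv_cancel]
    exact ⟨((𝟙 G₀ ⊗ₘ pP) ≫ a).left (t.left z), ⟨_, rfl⟩, (1 : P ⟶ G₀).left z, by
      rw [← Scheme.Hom.comp_apply t.left, ← Over.comp_left, e]; rfl⟩
  exact ⟨Over.homMk (IsOpenImmersion.lift i₀.left a.left hr)
    (by rw [← Over.w i₀, ← Category.assoc, IsOpenImmersion.lift_fac]; exact Over.w a),
    Over.OverMorphism.ext (IsOpenImmersion.lift_fac _ _ _)⟩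

variable {G G₀ A N : Over (Spec (CommRingCat.of k))} [GrpObj G] [Smooth G.hom] [QuasiCompact G.hom] [GrpObj G₀] [GrpObj A] [GrpObj N]

local notation "φ" => Spec.map (CommRingCat.ofHom (algebraMap k (AlgebraicClosure k)))

theorem comm_av {A : 𝒦} [GrpObj A] [IsProper A.hom] [Smooth A.hom] [ConnectedSpace ↥A.left] {W : 𝒦} (a b : W ⟶ A) :
    a * b = b * a := by
  haveI := GrothLib.Neutral.geometricallyConnected_of_point A.hom (η[A] : 𝟙_ _ ⟶ A).left (Over.w _)
  haveI := GrothLib.Rigidity.geometricallyIntegral_of_smooth A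
  haveI : IsCommMonObj A := isCommMonObj_of_isProper_of_geometricallyIntegral A
  rw [Hom.mul_def, Hom.mul_def]
  conv_lhs => rw [← IsCommMonObj.mul_comm A]
  rw [← Category.assoc, lift_braiding_hom]

/-- Kernels of the Albanese homomorphism of the neutral component are stable under conjugation. -/
theorem stable_conj (i₀ : G₀ ⟶ G) [IsMonHom i₀] [IsOpenImmersion i₀.left] [ConnectedSpace ↥G₀.left]
    [IsProper A.hom] [Smooth A.hom] [ConnectedSpace ↥A.left] (α : G₀ ⟶ A) [IsMonHom α]
    (j : N ⟶ G₀) [IsMonHom j] (hN : AlgGrp.IsKernel j α)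
    (hmin : ∀ (B : 𝒦) [GrpObj B] [IsProper B.hom] (q : G₀ ⟶ B) [IsMonHom q], j ≫ q = 1) :
    AlgGrp.IsNormalHom (j ≫ i₀) := by
  haveI : IsSeparated G.hom := GrpSchField.isSeparated G
  haveI : Mono i₀ := Over.mono_of_mono_left i₀
  haveI : Smooth G₀.hom := by rw [← Over.w i₀]; infer_instance
  haveI : IsLocallyNoetherian G.left := LocallyOfFiniteType.isLocallyNoetherian G.hom
  haveI : QuasiCompact G₀.hom := by rw [← Over.w i₀]; infer_instance
  obtain ⟨c, hc⟩ := exists_conj i₀
  have hcp : ∀ {W : 𝒦} (x : W ⟶ G₀) (y : W ⟶ G), (lift x y ≫ c) ≫ i₀ = y * (x ≫ i₀) * y⁻¹ := fun {W} x y => by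
    rw [Category.assoc, hc, MonObj.comp_mul, MonObj.comp_mul, GrpObj.comp_inv, lift_snd, lift_fst_assoc]
  haveI : IsSeparated A.hom := inferInstance
  obtain ⟨Z, z, hz, hZ⟩ := EssFree.exists_closed_forall_eq (c ≫ α) 1 (EssFree.projCover_field G₀ G)
  haveI : Mono z := Over.mono_of_mono_left z
  have test : ∀ {W : 𝒦} (x : W ⟶ G₀), (∃ w, w ≫ z = x) ↔
      ∀ (W' : 𝒦) (t : W' ⟶ W) (y : W' ⟶ G), lift (t ≫ x) y ≫ c ≫ α = 1 := fun {W} x =>
    (hZ W x).trans (forall₃_congr fun W' t y => by rw [MonObj.comp_one])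
  have hcm : ∀ {W : 𝒦} (a b : W ⟶ G₀) (y : W ⟶ G), lift (a * b) y ≫ c = (lift a y ≫ c) * (lift b y ≫ c) :=
    fun {W} a b y => by
      rw [← cancel_mono i₀, MonObj.mul_comp, hcp, hcp, hcp, MonObj.mul_comp]
      group
  have hci : ∀ {W : 𝒦} (a : W ⟶ G₀) (y : W ⟶ G), lift a⁻¹ y ≫ c = (lift a y ≫ c)⁻¹ := fun {W} a y => by
    rw [← cancel_mono i₀, GrpObj.inv_comp, hcp, hcp, GrpObj.inv_comp]
    group
  obtain ⟨_, hz'⟩ := GrothLib.EssFree.exists_grpObj_of_mono z
    (fun W => (test 1).2 fun W' t y => by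
      rw [MonObj.comp_one, ← Category.assoc, show lift (1 : W' ⟶ G₀) y ≫ c = 1 by
        rw [← cancel_mono i₀, hcp, MonObj.one_comp, _root_.mul_one, mul_inv_cancel], MonObj.one_comp])
    (fun W a b => (test _).2 fun W' t y => by
      rw [MonObj.comp_mul, ← Category.assoc, hcm, MonObj.mul_comp, Category.assoc, Category.assoc,
        (test (a ≫ z)).1 ⟨a, rfl⟩ W' t y, (test (b ≫ z)).1 ⟨b, rfl⟩ W' t y, _root_.mul_one])
    (fun W a => (test _).2 fun W' t y => by
      rw [GrpObj.comp_inv, ← Category.assoc, hci, GrpObj.inv_comp, Category.assoc,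
        (test (a ≫ z)).1 ⟨a, rfl⟩ W' t y, inv_one])
  haveI := hz'
  have hstab : ∀ {W : 𝒦} (w : W ⟶ Z) (g : W ⟶ G), ∃ w' : W ⟶ Z, w' ≫ z = lift (w ≫ z) g ≫ c := fun {W} w g => by
    refine (test _).2 fun W' t y => ?_
    have h := (test (w ≫ z)).1 ⟨w, rfl⟩ W' t (y * (t ≫ g))
    rw [← Category.assoc] at h ⊢
    convert h using 2
    rw [← cancel_mono i₀, hcp, hcp, ← Category.assoc t (lift (w ≫ z) g) c, comp_lift, hcp]
    group
  have hzn : AlgGrp.IsNormalHom z := by
    intro W g w
    obtain ⟨w', hw'⟩ := hstab w (g ≫ i₀)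
    refine ⟨w', ?_⟩
    rw [← cancel_mono i₀, hw', hcp, MonObj.mul_comp, MonObj.mul_comp, GrpObj.inv_comp]
  haveI : LocallyOfFiniteType Z.hom := by rw [← Over.w z]; infer_instance
  obtain ⟨Q, _, b, hb, hQs, hQq, hbf, hbs, hbe, hker⟩ := Chev24.exists_quot z hzn
  haveI := hb; haveI := hQs; haveI := hQq; haveI := hbf; haveI := hbs
  -- properness of the quotient
  let f : Spec (CommRingCat.of (AlgebraicClosure k)) ⟶ Spec (CommRingCat.of k) := φ
  haveI : IsIntegralHom f := SemiAbDesc2.isIntegralHom_algClosure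
  haveI : Flat f := GrothLib.Flag27.flat_to_field f
  haveI : Surjective f := GrothLib.Flag27.surjective_to_field f
  let Fn := Over.pullback f
  haveI := GrothLib.Flag27.smooth_bc f G
  haveI := GrothLib.Flag27.smooth_bc f G₀
  haveI := GrothLib.Flag27.smooth_bc f Q
  haveI : QuasiCompact (Red.bc f G).hom := MorphismProperty.pullback_snd (P := @QuasiCompact) G.hom f ‹_›
  haveI : QuasiCompact (Red.bc f G₀).hom := MorphismProperty.pullback_snd (P := @QuasiCompact) G₀.hom f ‹_›
  haveI : QuasiCompact (Red.bc f Q).hom := MorphismProperty.pullback_snd (P := @QuasiCompact) Q.hom f ‹_›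
  haveI : IsSeparated (Red.bc f Q).hom := GrpSchField.isSeparated _
  haveI : ConnectedSpace ↥(Red.bc f G₀).left := GrothLib.Flag27.connectedSpace_bc f G₀
  haveI : IsProper (Red.bc f A).hom := inferInstanceAs (IsProper (pullback.snd A.hom f))
  haveI : Smooth (Red.bc f A).hom := GrothLib.Flag27.smooth_bc f A
  haveI : ConnectedSpace ↥(Red.bc f A).left := GrothLib.Flag27.connectedSpace_bc f A
  haveI : IsOpenImmersion (Fn.map i₀).left := GrothLib.Flag27.property_map f i₀ ‹_›
  haveI : Mono (Fn.map i₀) := Over.mono_of_mono_left _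
  let cK : Red.bc f G₀ ⊗ Red.bc f G ⟶ Red.bc f G₀ := Functor.LaxMonoidal.μ Fn G₀ G ≫ Fn.map c
  have hcK : ∀ {W : Over (Spec (CommRingCat.of (AlgebraicClosure k)))} (x : W ⟶ Red.bc f G₀) (y : W ⟶ Red.bc f G),
      (lift x y ≫ cK) ≫ Fn.map i₀ = y * (x ≫ Fn.map i₀) * y⁻¹ := fun {W} x y => by
    simp only [cK, Category.assoc, ← Functor.map_comp, hc]
    simp only [Functor.map_mul, Functor.map_inv', Functor.map_comp, MonObj.comp_mul, GrpObj.comp_inv,
      Functor.Monoidal.μ_fst_assoc, Functor.Monoidal.μ_snd, lift_fst_assoc, lift_snd]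
    erw [lift_snd, lift_fst_assoc]
  have hfin : ∀ s : Finset (𝟙_ (Over (Spec (CommRingCat.of (AlgebraicClosure k)))) ⟶ Red.bc f G),
      ∃ (B : Over (Spec (CommRingCat.of (AlgebraicClosure k)))) (_ : GrpObj B) (u : Red.bc f G₀ ⟶ B),
        IsProper B.hom ∧ IsMonHom u ∧
        ∀ g ∈ s, ∀ {W : Over (Spec (CommRingCat.of (AlgebraicClosure k)))} (x : W ⟶ Red.bc f G₀), x ≫ u = 1 →
          lift x (toUnit W ≫ g) ≫ cK ≫ Fn.map α = 1 := by
    classical
    intro s
    induction s using Finset.induction with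
    | empty =>
      haveI : IsProper (𝟙_ (Over (Spec (CommRingCat.of (AlgebraicClosure k))))).hom :=
        inferInstanceAs (IsProper (𝟙 (Spec (CommRingCat.of (AlgebraicClosure k)))))
      exact ⟨𝟙_ _, inferInstance, toUnit _, inferInstance, inferInstance, fun g hg => by simp at hg⟩
    | @insert g s _ ih =>
      obtain ⟨B, _, u, hBp, hu, hB⟩ := ih
      haveI := hBp; haveI := hu
      let ag : Red.bc f G₀ ⟶ Red.bc f A := lift (𝟙 _) (toUnit _ ≫ g) ≫ cK ≫ Fn.map α
      have hag : ∀ {W : Over (Spec (CommRingCat.of (AlgebraicClosure k)))} (x : W ⟶ Red.bc f G₀),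
          x ≫ ag = lift x (toUnit W ≫ g) ≫ cK ≫ Fn.map α := fun {W} x => by
        simp only [ag]
        rw [← Category.assoc, comp_lift, Category.comp_id, ← Category.assoc x, toUnit_unique (x ≫ toUnit _) (toUnit W)]
      haveI : IsMonHom ag := GrpSchField.isMonHom_of_mul ag (by
        have e1 : (ag ⊗ₘ ag) ≫ μ[Red.bc f A] = (fst _ _ ≫ ag) * (snd _ _ ≫ ag) := by
          rw [Hom.mul_def, lift_fst_comp_snd_comp]
        have e2 : μ[Red.bc f G₀] = fst (Red.bc f G₀) (Red.bc f G₀) * snd _ _ := by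
          rw [Hom.mul_def, lift_fst_snd, Category.id_comp]
        have e3 : ∀ {W : Over (Spec (CommRingCat.of (AlgebraicClosure k)))} (x : W ⟶ Red.bc f G₀) (y : W ⟶ Red.bc f G),
            lift x y ≫ cK ≫ Fn.map α = (lift x y ≫ cK) ≫ Fn.map α := fun x y => (Category.assoc _ _ _).symm
        rw [e1, e2, hag, hag, hag, e3, e3, e3, ← MonObj.mul_comp]
        congr 1
        rw [← cancel_mono (Fn.map i₀), MonObj.mul_comp, hcK, hcK, hcK, MonObj.mul_comp]
        group)
      haveI : IsProper (Red.bc f A ⊗ B).hom := by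
        rw [show (Red.bc f A ⊗ B).hom = pullback.fst (Red.bc f A).hom B.hom ≫ (Red.bc f A).hom from rfl]; infer_instance
      refine ⟨Red.bc f A ⊗ B, inferInstance, lift ag u, inferInstance, GrpSchField.isMonHom_of_mul _ (by
          rw [show (lift ag u ⊗ₘ lift ag u) ≫ μ[Red.bc f A ⊗ B] = (fst _ _ ≫ lift ag u) * (snd _ _ ≫ lift ag u) by
            rw [Hom.mul_def, ← lift_map, lift_fst_snd, Category.id_comp]]
          apply CartesianMonoidalCategory.hom_ext
          · rw [Category.assoc, lift_fst, MonObj.mul_comp, Category.assoc, Category.assoc, lift_fst, ← MonObj.mul_comp,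
              Hom.mul_def, lift_fst_snd, Category.id_comp]
          · rw [Category.assoc, lift_snd, MonObj.mul_comp, Category.assoc, Category.assoc, lift_snd, ← MonObj.mul_comp,
              Hom.mul_def, lift_fst_snd, Category.id_comp]), ?_⟩
      intro g' hg' W x hx
      have h1 := congrArg (· ≫ fst _ _) hx
      have h2 := congrArg (· ≫ snd _ _) hx
      simp only [Category.assoc, lift_fst, lift_snd, MonObj.one_comp] at h1 h2
      rcases Finset.mem_insert.1 hg' with rfl | hgs
      · rw [← hag]; exact h1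
      · exact hB g' hgs x h2
  let tr : (𝟙_ (Over (Spec (CommRingCat.of (AlgebraicClosure k)))) ⟶ Red.bc f G) → (Red.bc f G₀ ⟶ Red.bc f G) :=
    fun g => Fn.map i₀ * (toUnit _ ≫ g)
  have hopen : ∀ g, IsOpenImmersion (tr g).left := fun g => by
    let R : Red.bc f G ⟶ Red.bc f G := 𝟙 _ * (toUnit _ ≫ g)
    let R' : Red.bc f G ⟶ Red.bc f G := 𝟙 _ * (toUnit _ ≫ g⁻¹)
    haveI : IsIso R := ⟨R', by
      simp only [R', MonObj.comp_mul, Category.comp_id]
      rw [← Category.assoc, toUnit_unique (R ≫ toUnit _) (toUnit _)]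
      simp only [R]
      rw [GrpObj.comp_inv, mul_inv_cancel_right], by
      simp only [R, MonObj.comp_mul, Category.comp_id]
      rw [← Category.assoc, toUnit_unique (R' ≫ toUnit _) (toUnit _)]
      simp only [R']
      rw [GrpObj.comp_inv, inv_mul_cancel_right]⟩
    haveI : IsIso R.left := inferInstanceAs (IsIso ((Over.forget _).map R))
    have e : tr g = Fn.map i₀ ≫ R := by
      simp only [tr, R]
      erw [MonObj.comp_mul, Category.comp_id, ← Category.assoc, toUnit_unique (Fn.map i₀ ≫ toUnit _) (toUnit _)]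
    rw [e]
    exact inferInstanceAs (IsOpenImmersion ((Fn.map i₀).left ≫ R.left))
  obtain ⟨s, hs⟩ : ∃ s : Finset (𝟙_ (Over (Spec (CommRingCat.of (AlgebraicClosure k)))) ⟶ Red.bc f G),
      ∀ x : (Red.bc f G).left, ∃ g ∈ s, x ∈ Set.range (tr g).left := by
    haveI : JacobsonSpace (Red.bc f G).left := LocallyOfFiniteType.jacobsonSpace (Y := Spec _) (Red.bc f G).hom
    haveI : CompactSpace (Red.bc f G).left := QuasiCompact.compactSpace_of_compactSpace (Red.bc f G).hom
    have hO : ∀ g, IsOpen (Set.range (tr g).left) := fun g => (haveI := hopen g; (tr g).left.isOpenEmbedding.isOpen_range)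
    have hU : (Set.univ : Set (Red.bc f G).left) ⊆ ⋃ g, Set.range (tr g).left := by
      by_contra hne
      obtain ⟨x, -, hx⟩ := Set.not_subset.1 hne
      obtain ⟨y, hy, hyc⟩ := nonempty_inter_closedPoints (Z := (⋃ g, Set.range (tr g).left)ᶜ) ⟨x, hx⟩
        (isOpen_iUnion hO).isClosed_compl.isLocallyClosed
      obtain ⟨g, hg⟩ := Rigidity.exists_point_over (Red.bc f G) y hyc
      refine hy (Set.mem_iUnion.2 ⟨g, (η[Red.bc f G₀]).left (IsLocalRing.closedPoint _), ?_⟩)
      rw [← Scheme.Hom.comp_apply, ← Over.comp_left, ← hg]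
      simp only [tr, MonObj.comp_mul]
      rw [← Category.assoc, toUnit_unique (η[Red.bc f G₀] ≫ toUnit _) (𝟙 _), Category.id_comp, IsMonHom.one_hom,
        MonObj.one_eq_one, _root_.one_mul]
    obtain ⟨t, ht⟩ := isCompact_univ.elim_finite_subcover _ hO hU
    exact ⟨t, fun x => by simpa using ht (Set.mem_univ x)⟩
  obtain ⟨B, _, u, hBp, hu, hB⟩ := hfin s
  haveI := hBp; haveI := hu
  have hall : ∀ {W : Over (Spec (CommRingCat.of (AlgebraicClosure k)))} (x : W ⟶ Red.bc f G₀) (y : W ⟶ Red.bc f G),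
      x ≫ u = 1 → lift x y ≫ cK ≫ Fn.map α = 1 := by
    intro W x y hx
    refine Over.OverMorphism.ext ?_
    let U : {g // g ∈ s} → W.left.Opens := fun g => y.left ⁻¹ᵁ
      ⟨Set.range (tr g.1).left, haveI := hopen g.1; (tr g.1).left.isOpenEmbedding.isOpen_range⟩
    have hU : TopologicalSpace.IsOpenCover U := by
      refine TopologicalSpace.Opens.ext (Set.eq_univ_of_forall fun w => ?_)
      obtain ⟨g, hg, hw⟩ := hs (y.left w)
      exact TopologicalSpace.Opens.mem_iSup.2 ⟨⟨g, hg⟩, hw⟩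
    refine (W.left.openCoverOfIsOpenCover U hU).hom_ext _ _ fun g => ?_
    let Wg : Over (Spec (CommRingCat.of (AlgebraicClosure k))) := Over.mk ((U g).ι ≫ W.hom)
    let p : Wg ⟶ W := Over.homMk (U g).ι
    haveI := hopen g.1
    let h : Wg ⟶ Red.bc f G₀ := Over.homMk (IsOpenImmersion.lift (tr g.1).left (p ≫ y).left (by
      rintro _ ⟨w, rfl⟩
      exact w.2)) (by rw [← Over.w (tr g.1), ← Category.assoc, IsOpenImmersion.lift_fac]; exact Over.w (p ≫ y))
    have hh : h ≫ tr g.1 = p ≫ y := Over.OverMorphism.ext (IsOpenImmersion.lift_fac _ _ _)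
    have hpy : p ≫ y = (h ≫ Fn.map i₀) * (toUnit Wg ≫ g.1) := by
      rw [← hh]
      simp only [tr, MonObj.comp_mul]
      rw [← Category.assoc, toUnit_unique (h ≫ toUnit _) (toUnit _)]
    have key : lift (p ≫ x) (p ≫ y) ≫ cK = h * (lift (p ≫ x) (toUnit Wg ≫ g.1) ≫ cK) * h⁻¹ := by
      rw [← cancel_mono (Fn.map i₀), hcK, MonObj.mul_comp, MonObj.mul_comp, GrpObj.inv_comp, hcK, hpy]
      group
    have main : p ≫ lift x y ≫ cK ≫ Fn.map α = p ≫ 1 := by
      rw [← Category.assoc, comp_lift, ← Category.assoc, key, MonObj.mul_comp, MonObj.mul_comp, Category.assoc,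
        hB g.1 g.2 (p ≫ x) (by rw [Category.assoc, hx, MonObj.comp_one]), _root_.mul_one, GrpObj.inv_comp,
        mul_inv_cancel, MonObj.comp_one]
    exact congrArg CommaMorphism.left main
  haveI : QuasiCompact u.left := SemiAbExp2.qc_left u
  obtain ⟨I, _, pI, jI, hpI, hjI, hpj, hpIs, hpIf, hpIl, hjIm, hIl, hkI⟩ := Neutral.exists_factor_field u
  haveI := hpI; haveI := hjI; haveI := hpIs; haveI := hpIf; haveI := hpIl; haveI := hjIm; haveI := hIl
  haveI : IsClosedImmersion jI.left := (Neutral.isClosedImmersion_factor u hpj).1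
  haveI : IsProper I.hom := by rw [← Over.w jI]; infer_instance
  obtain ⟨_, _⟩ := GrpDeligne.exists_grpObj_kernel pI _ hkI
  let x := pullback.fst u η[B]
  have hxu : x ≫ u = 1 := by
    calc x ≫ u = (x ≫ pI) ≫ jI := by rw [Category.assoc, hpj]
      _ = 1 := by rw [GrpDeligne.ker_comp_eq_one hkI, MonObj.one_comp]
  -- the kernel lands in the stable subgroup
  let W : 𝒦 := (Over.map f).obj (pullback u η[B])
  let xk : W ⟶ G₀ := Over.homMk (x.left ≫ pullback.fst G₀.hom f) (by
    show (x.left ≫ pullback.fst G₀.hom f) ≫ G₀.hom = (pullback u η[B]).hom ≫ f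
    rw [Category.assoc, pullback.condition, ← Category.assoc]
    exact congrArg (· ≫ f) (Over.w x))
  obtain ⟨w, hw⟩ : ∃ w : W ⟶ Z, w ≫ z = xk := by
    refine (test xk).2 fun W' t y => ?_
    let WK : Over (Spec (CommRingCat.of (AlgebraicClosure k))) := Over.mk (t.left ≫ (pullback u η[B]).hom)
    have hW : WK.hom ≫ f = W'.hom := (Category.assoc _ _ _).trans (Over.w t)
    let x' : WK ⟶ Red.bc f G₀ := (Over.homMk t.left : WK ⟶ pullback u η[B]) ≫ x
    let y' : WK ⟶ Red.bc f G := Over.homMk (pullback.lift y.left WK.hom ((Over.w y).trans hW.symm))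
      (pullback.lift_snd _ _ _)
    have h := hall x' y' (by rw [Category.assoc, hxu, MonObj.comp_one])
    let zz : WK ⟶ Fn.obj (G₀ ⊗ G) := lift x' y' ≫ Functor.LaxMonoidal.μ Fn G₀ G
    have hzz : zz ≫ Fn.map (c ≫ α) = zz ≫ Fn.map 1 := by
      rw [Functor.map_one, MonObj.comp_one, ← h, Functor.map_comp]
      simp only [zz, cK, Category.assoc]
    have hz1 : zz ≫ Fn.map (fst G₀ G) = x' := by
      simp only [zz, Category.assoc, Functor.Monoidal.μ_fst]
      erw [lift_fst]
    have hz2 : zz ≫ Fn.map (snd G₀ G) = y' := by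
      simp only [zz, Category.assoc, Functor.Monoidal.μ_snd]
      erw [lift_snd]
    let zk : W' ⟶ G₀ ⊗ G := Over.homMk (zz.left ≫ pullback.fst (G₀ ⊗ G).hom f) (by
      rw [Category.assoc, pullback.condition, ← Category.assoc]
      exact (congrArg (· ≫ f) (Over.w zz)).trans hW)
    have hnat : ∀ {X : 𝒦} (F : G₀ ⊗ G ⟶ X), (zz ≫ Fn.map F).left ≫ pullback.fst X.hom f = (zk ≫ F).left := by
      intro X F
      rw [Over.comp_left, Over.comp_left, Category.assoc,
        show (Fn.map F).left ≫ pullback.fst X.hom f = pullback.fst (G₀ ⊗ G).hom f ≫ F.left from pullback.lift_fst _ _ _,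
        ← Category.assoc]
      rfl
    have hzk : zk = lift (t ≫ xk) y := by
      apply CartesianMonoidalCategory.hom_ext
      · rw [lift_fst]
        refine Over.OverMorphism.ext ?_
        rw [← hnat, hz1]
        exact Category.assoc _ _ _
      · rw [lift_snd]
        refine Over.OverMorphism.ext ?_
        rw [← hnat, hz2]
        exact pullback.lift_fst _ _ _
    rw [← hzk]
    refine Over.OverMorphism.ext ?_
    rw [← hnat, hzz, hnat, MonObj.comp_one]
  haveI : Surjective (Fn.map b).left := GrothLib.Flag27.property_map f b hbs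
  haveI : Flat (Fn.map b).left := GrothLib.Flag27.property_map f b hbf
  have hxb : x ≫ Fn.map b = 1 := by
    let wK : pullback u η[B] ⟶ Red.bc f Z := Over.homMk (pullback.lift w.left (pullback u η[B]).hom (Over.w w))
      (pullback.lift_snd _ _ _)
    have e : wK ≫ Fn.map z = x := by
      refine Over.OverMorphism.ext (pullback.hom_ext ?_ ?_)
      · rw [Over.comp_left, Category.assoc,
          show (Fn.map z).left ≫ pullback.fst G₀.hom f = pullback.fst Z.hom f ≫ z.left from pullback.lift_fst _ _ _,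
          show wK.left ≫ pullback.fst Z.hom f ≫ z.left = w.left ≫ z.left from pullback.lift_fst_assoc _ _ _ _,
          ← Over.comp_left, hw]
        rfl
      · exact (Over.w (wK ≫ Fn.map z)).trans (Over.w x).symm
    rw [← e, Category.assoc, ← Functor.map_comp, GrpDeligne.ker_comp_eq_one hker, Functor.map_one, MonObj.comp_one]
  haveI : QuasiCompact pI.left := (Neutral.isClosedImmersion_factor u hpj).2
  obtain ⟨gI, -, hgI⟩ := GrpDeligne.exists_factor pI _ hkI (Fn.map b) hxb
  haveI : IsProper Q.hom := by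
    haveI : Surjective gI.left := by
      haveI : Surjective (pI.left ≫ gI.left) := by rw [← Over.comp_left, hgI]; infer_instance
      exact Surjective.of_comp pI.left gI.left
    haveI : UniversallyClosed (gI.left ≫ (Red.bc f Q).hom) := by rw [Over.w gI]; infer_instance
    haveI : UniversallyClosed (Red.bc f Q).hom := UniversallyClosed.of_comp_surjective gI.left _
    have h : IsProper (Red.bc f Q).hom := { }
    exact MorphismProperty.of_pullback_snd_of_descendsAlong (P := @IsProper)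
      (Q := GrothLib.EtSite.fpqcCov) (f := Q.hom) (g := f) ⟨⟨‹_›, ‹_›⟩, inferInstance⟩ h
  obtain ⟨e, he⟩ := GrpSchField.exists_lift_of_comp_eq_one hker j (hmin Q b)
  intro W g n
  obtain ⟨w', hw'⟩ := hstab (n ≫ e) g
  have h1 : (lift (n ≫ j) g ≫ c) ≫ α = 1 := by
    have := (test (w' ≫ z)).1 ⟨w', rfl⟩ W (𝟙 W) 1
    rw [Category.id_comp, ← Category.assoc] at this
    have e2 : lift (w' ≫ z) (1 : W ⟶ G) ≫ c = w' ≫ z := by
      rw [← cancel_mono i₀, hcp, _root_.one_mul, inv_one, _root_.mul_one]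
    rw [e2, hw', Category.assoc n e z, he] at this
    exact this
  obtain ⟨n', hn'⟩ := GrpSchField.exists_lift_of_comp_eq_one hN _ h1
  exact ⟨n', by rw [← Category.assoc n', hn', hcp, Category.assoc]⟩

end GrothLib.ChevNorm2
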